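import Groth.Agent.CohPullLib.Edge

/-!
# The Leray edge map is injective in degree one
-/

set_option autoImplicit false
set_option linter.style.haveILetI false
set_option backward.isDefEq.respectTransparency false
set_option backward.isDefEq.respectTransparency.types false

universe w v v' u u'

open CategoryTheory CategoryTheory.Limits CategoryTheory.Abelian

namespace Groth.Agent.LerayOne

open BigSiteLib.HofBij

variable {A : Type u} [Category.{v} A] [Abelian A] [EnoughInjectives A] [HasExt.{w} A]
  {B : Type u'} [Category.{v'} B] [Abelian B] [HasExt.{w} B]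
  {L : B ⥤ A} {R : A ⥤ B} [L.Additive] [R.Additive] [PreservesFiniteLimits L] [PreservesFiniteColimits L]
  (adj : L ⊣ R) {ZA : A} {ZB : B} (i : ZA ⟶ L.obj ZB)

theorem hof_injective_one (hi : IsIso i) [PreservesFiniteLimits R] (F : A) :
    Function.Injective (hof adj i F 1) := by
  let P := Classical.arbitrary (InjectivePresentation F)
  have hS := P.shortExact_shortComplex
  let S := P.shortComplex
  haveI : Injective S.X₂ := P.injective
  haveI : Injective (R.obj S.X₂) := Injective.injective_of_adjoint adj _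
  haveI : Mono S.f := hS.mono_f
  haveI : Mono (R.map S.f) := inferInstance
  let π := cokernel.π (R.map S.f)
  let δ : cokernel (R.map S.f) ⟶ R.obj S.X₃ :=
    cokernel.desc _ (R.map S.g) (by rw [← R.map_comp, S.zero, R.map_zero])
  have hπδ : π ≫ δ = R.map S.g := cokernel.π_desc _ _ _
  haveI : Mono δ := (ShortComplex.exact_iff_mono_cokernel_desc (S.map R)).1
    (hS.exact.map_of_mono_of_preservesKernel R hS.mono_f inferInstance)
  let T : ShortComplex B := ShortComplex.mk (R.map S.f) π (cokernel.condition _)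
  have hT : T.ShortExact :=
    { exact := ShortComplex.exact_of_g_is_cokernel _ (cokernelIsCokernel _)
      mono_f := inferInstanceAs (Mono (R.map S.f))
      epi_g := inferInstanceAs (Epi π) }
  let c : L.obj (cokernel (R.map S.f)) ⟶ S.X₃ := (adj.homEquiv _ _).symm δ
  have hc : L.map π ≫ c = adj.counit.app S.X₂ ≫ S.g := by
    rw [← Adjunction.homEquiv_naturality_left_symm, hπδ, Adjunction.homEquiv_counit]
    exact adj.counit.naturality S.g
  have hn : (hT.extClass.mapExactFunctor L).comp (Ext.mk₀ (adj.counit.app S.X₁)) (add_zero 1) =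
      (Ext.mk₀ c).comp hS.extClass (zero_add 1) :=
    (congrArg (fun t => Ext.comp t (Ext.mk₀ (adj.counit.app S.X₁)) (add_zero 1))
      (Ext.mapExactFunctor_extClass L hT)).trans
      (ShortComplex.ShortExact.extClass_naturality (hT.map_of_exact L) hS
        ({ τ₁ := adj.counit.app S.X₁, τ₂ := adj.counit.app S.X₂, τ₃ := c
           comm₁₂ := (adj.counit.naturality S.f).symm, comm₂₃ := hc.symm } : T.map L ⟶ S))
  suffices ∀ x, hof adj i F 1 x = 0 → x = 0 by
    intro x y hxy
    have h := hof_add adj i F 1 (x - y) y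
    rw [sub_add_cancel, hxy] at h
    exact sub_eq_zero.1 (this _ (by simpa using h.symm))
  intro x hx
  obtain ⟨y, hy⟩ : ∃ y : Ext.{w} ZB (cokernel (R.map S.f)) 0, y.comp hT.extClass rfl = x :=
    haveI : Injective T.X₂ := ‹Injective (R.obj S.X₂)›
    Ext.covariant_sequence_exact₁ ZB hT x (Ext.eq_zero_of_injective _) rfl
  obtain ⟨φ, rfl⟩ := (Ext.mk₀_bijective _ _).2 y
  subst hy
  have e : hof adj i F 1 ((Ext.mk₀ φ).comp hT.extClass rfl) =
      (Ext.mk₀ (i ≫ L.map φ ≫ c)).comp hS.extClass rfl := by
    simp only [hof, Ext.mapExactFunctor_comp, Ext.mapExactFunctor_mk₀, Ext.comp_assoc_of_third_deg_zero]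
    erw [hn]
    simp [← Ext.comp_assoc_of_second_deg_zero, Ext.mk₀_comp_mk₀, Category.assoc]
  rw [e] at hx
  obtain ⟨z, hz⟩ := Ext.covariant_sequence_exact₃ ZA hS (Ext.mk₀ (i ≫ L.map φ ≫ c)) (n₁ := 1) rfl hx
  obtain ⟨ψ, rfl⟩ := (Ext.mk₀_bijective _ _).2 z
  rw [Ext.mk₀_comp_mk₀] at hz
  have h1 := (Ext.mk₀_bijective _ _).1 hz
  let ψ' : ZB ⟶ R.obj S.X₂ := adj.homEquiv _ _ (inv i ≫ ψ)
  have h2 : φ = ψ' ≫ π := by
    rw [← cancel_mono δ, Category.assoc, hπδ]
    apply (adj.homEquiv _ _).symm.injective
    rw [Adjunction.homEquiv_naturality_right_symm, Adjunction.homEquiv_naturality_left_symm,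
      Equiv.symm_apply_apply, Category.assoc]
    rw [IsIso.eq_inv_comp]
    exact h1.symm
  have h0 : (Ext.mk₀ π).comp hT.extClass (zero_add 1) = 0 := hT.comp_extClass
  rw [h2, ← Ext.mk₀_comp_mk₀, Ext.comp_assoc_of_second_deg_zero, h0, Ext.comp_zero]

/-- The edge map of `CohPull` is injective in degree one. -/
theorem pushEdge_injective_one {X Y : AlgebraicGeometry.Scheme.{u}} (f : X ⟶ Y) (G : X.Modules) :
    Function.Injective (CohPull.pushEdge f G 1) := by
  have := QCoh.Ab.push_preservesFiniteLimits f.base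
  rw [show ⇑(CohPull.pushEdge f G 1) = hof (CohPull.invPushAdj f.base)
      (CohPull.oneTo f.base) (Coh.toAb G) 1 from funext (CohPullLib.pushEdge_apply f G 1)]
  exact hof_injective_one _ _ inferInstance _

end Groth.Agent.LerayOne
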